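import Groth.Prelude.Def_W4stk3formalspacesTaut
import Mathlib.Topology.Algebra.InfiniteSum.Nonarchimedean
import Mathlib.Topology.Algebra.InfiniteSum.Ring
import Mathlib.Topology.Algebra.InfiniteSum.NatInt
import Mathlib.RingTheory.AdicCompletion.Basic
import Mathlib.RingTheory.Finiteness.Ideal

/-!
Basic tools for linearly topologized rings: closures of ideals, ideals of definition, series in
complete rings with terms in powers of a finitely generated ideal, successive approximation.
-/

set_option autoImplicit false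

namespace Groth.Agent.LinTopLib

open Filter Topology
open scoped Pointwise

universe u v w

section Module

theorem mem_closure_iff_of_hasBasis {R : Type u} [Ring R] {M : Type v} [AddCommGroup M] [Module R M]
    [TopologicalSpace M] [IsTopologicalAddGroup M] {ι : Sort w} {p : ι → Prop} {B : ι → Submodule R M}
    (hB : (𝓝 (0 : M)).HasBasis p (fun i => (B i : Set M))) (N : Submodule R M) {x : M} :
    x ∈ closure (N : Set M) ↔ ∀ i, p i → x ∈ N ⊔ B i := by
  rw [mem_closure_iff_nhds]
  constructor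
  · intro h i hi
    have hx : (fun y => y - x) ⁻¹' (B i : Set M) ∈ 𝓝 x :=
      (continuous_id.sub continuous_const).tendsto' x 0 (sub_self x) (hB.mem_of_mem hi)
    obtain ⟨y, hy1, hy2⟩ := h _ hx
    exact Submodule.mem_sup.mpr ⟨y, hy2, -(y - x), neg_mem hy1, by abel⟩
  · intro h t ht
    have ht' : (fun y => x + y) ⁻¹' t ∈ 𝓝 (0 : M) :=
      (continuous_const.add continuous_id).tendsto' 0 x (add_zero x) ht
    obtain ⟨i, hi, hit⟩ := hB.mem_iff.mp ht'
    obtain ⟨n, hn, b, hb, hnb⟩ := Submodule.mem_sup.mp (h i hi)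
    refine ⟨n, ?_, hn⟩
    have := hit (neg_mem hb)
    simpa [← hnb] using this

end Module

/-- `(I ⊔ J) ^ n ≤ I ^ n ⊔ J`. -/
theorem sup_pow_le {R : Type u} [CommSemiring R] (I J : Ideal R) (n : ℕ) :
    (I ⊔ J) ^ n ≤ I ^ n ⊔ J := by
  induction n with
  | zero => simp
  | succ n ih =>
    rw [pow_succ, pow_succ]
    refine (mul_le_mul' ih le_rfl).trans ?_
    rw [Ideal.sup_mul]
    refine sup_le ?_ (Ideal.mul_le_left.trans le_sup_right)
    rw [Ideal.mul_sup]
    exact sup_le le_sup_left (Ideal.mul_le_right.trans le_sup_right)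

section Ring

variable {A : Type u} [CommRing A] [TopologicalSpace A] [IsTopologicalRing A]
variable {B : Type v} [CommRing B] [TopologicalSpace B] [IsTopologicalRing B]

theorem isOpen_of_le {I J : Ideal A} (h : I ≤ J) (hI : IsOpen (I : Set A)) : IsOpen (J : Set A) :=
  AddSubgroup.isOpen_mono (H₁ := I.toAddSubgroup) (H₂ := J.toAddSubgroup) h hI

theorem isClosed_of_isOpen {I : Ideal A} (hI : IsOpen (I : Set A)) : IsClosed (I : Set A) :=
  I.toAddSubgroup.isClosed_of_isOpen hI

theorem closure_le_of_isOpen {S U : Ideal A} (h : S ≤ U) (hU : IsOpen (U : Set A)) :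
    S.closure ≤ U :=
  closure_minimal h (isClosed_of_isOpen hU)

omit [IsTopologicalRing A] in
theorem mem_nhds_of_isOpen {I : Ideal A} (hI : IsOpen (I : Set A)) : (I : Set A) ∈ 𝓝 (0 : A) :=
  hI.mem_nhds I.zero_mem

theorem le_closure (I : Ideal A) : I ≤ I.closure := fun _ h => subset_closure h

theorem closure_mono {I J : Ideal A} (h : I ≤ J) : I.closure ≤ J.closure :=
  _root_.closure_mono h

theorem closure_mul_le (I J : Ideal A) : I.closure * J.closure ≤ (I * J).closure :=
  Ideal.mul_le.mpr fun _ hr _ hs =>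
    map_mem_closure₂ continuous_mul hr hs fun _ ha _ hb => Ideal.mul_mem_mul ha hb

theorem closure_pow_le (I : Ideal A) (n : ℕ) : I.closure ^ n ≤ (I ^ n).closure := by
  induction n with
  | zero => simpa using le_closure (⊤ : Ideal A)
  | succ n ih => rw [pow_succ, pow_succ]; exact (mul_le_mul' ih le_rfl).trans (closure_mul_le _ _)

theorem map_closure_le (φ : A →+* B) (hφ : Continuous φ) (I : Ideal A) :
    I.closure.map φ ≤ (I.map φ).closure :=
  Ideal.map_le_iff_le_comap.mpr fun _ hx => map_mem_closure hφ hx fun _ => Ideal.mem_map_of_mem φ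

theorem closure_map_closure (φ : A →+* B) (hφ : Continuous φ) (I : Ideal A) :
    (I.closure.map φ).closure = (I.map φ).closure :=
  le_antisymm (closure_minimal (map_closure_le φ hφ I) isClosed_closure)
    (closure_mono (Ideal.map_mono (le_closure I)))

omit [IsTopologicalRing A] [TopologicalSpace A] in
theorem closure_map_eq_of_denseRange (φ : A →+* B) (hd : DenseRange φ) (I : Ideal A) :
    closure ((I.map φ : Ideal B) : Set B) = closure (φ '' (I : Set A)) := by
  refine Set.Subset.antisymm (closure_minimal ?_ isClosed_closure)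
    (_root_.closure_mono (Set.image_subset_iff.mpr fun _ => Ideal.mem_map_of_mem φ))
  let K : Ideal B :=
    { (I.toAddSubgroup.map φ.toAddMonoidHom).topologicalClosure with
      smul_mem' := fun b x hx => by
        change x ∈ closure (φ '' (I : Set A)) at hx
        change b * x ∈ closure (φ '' (I : Set A))
        refine map_mem_closure₂ continuous_mul (hd b) hx ?_
        rintro _ ⟨a, rfl⟩ _ ⟨i, hi, rfl⟩
        exact ⟨a * i, I.mul_mem_left a hi, map_mul φ a i⟩ }
  exact (Ideal.map_le_iff_le_comap.mpr fun a ha => subset_closure ⟨a, ha, rfl⟩ : I.map φ ≤ K)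

theorem isOpen_pow_of_isAdic {I : Ideal A} (h : IsAdic I) (n : ℕ) :
    IsOpen ((I ^ n : Ideal A) : Set A) :=
  (isAdic_iff.mp h).1 n

theorem isLinearTopology_of_isAdic {I : Ideal A} (h : IsAdic I) : IsLinearTopology A A := by
  change _ = I.adicTopology at h
  subst h
  exact I.isLinearTopology

variable [IsLinearTopology A A]

theorem exists_isOpen_le {s : Set A} (hs : s ∈ 𝓝 (0 : A)) :
    ∃ U : Ideal A, IsOpen (U : Set A) ∧ (U : Set A) ⊆ s :=
  IsLinearTopology.hasBasis_open_ideal.mem_iff.mp hs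

theorem nonarchimedeanRing : NonarchimedeanRing A where
  is_nonarchimedean s hs := by
    obtain ⟨U, hU, hUs⟩ := exists_isOpen_le hs
    exact ⟨⟨U.toAddSubgroup, hU⟩, hUs⟩

theorem mem_closure_iff {S : Ideal A} {x : A} :
    x ∈ closure (S : Set A) ↔ ∀ U : Ideal A, IsOpen (U : Set A) → x ∈ S ⊔ U :=
  mem_closure_iff_of_hasBasis IsLinearTopology.hasBasis_open_ideal S

theorem isTopologicallyNilpotent_iff {x : A} :
    IsTopologicallyNilpotent x ↔ ∀ U : Ideal A, IsOpen (U : Set A) → ∃ n : ℕ, x ^ n ∈ U := by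
  refine ⟨fun h U hU => h.exists_pow_mem_of_mem_nhds (mem_nhds_of_isOpen hU), fun h => ?_⟩
  refine (atTop_basis.tendsto_iff IsLinearTopology.hasBasis_open_ideal).mpr fun U hU => ?_
  obtain ⟨n, hn⟩ := h U hU
  exact ⟨n, trivial, fun m hm => U.pow_mem_of_pow_mem hn hm⟩

end Ring

section IdealOfDefinition

variable {A : Type u} [CommRing A] [TopologicalSpace A]

theorem exists_pow_le {I : Ideal A} (hI : LinTop.IsIdealOfDefinition A I) {U : Ideal A}
    (hU : IsOpen (U : Set A)) : ∃ n : ℕ, 0 < n ∧ I ^ n ≤ U :=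
  hI.2 U (hU.mem_nhds U.zero_mem)

theorem isTopologicallyNilpotent_of_mem {I : Ideal A} (hI : LinTop.IsIdealOfDefinition A I)
    {x : A} (hx : x ∈ I) : IsTopologicallyNilpotent x :=
  tendsto_atTop'.mpr fun s hs => by
    obtain ⟨n, -, hn⟩ := hI.2 s hs
    exact ⟨n, fun m hm => hn (Ideal.pow_le_pow_right hm (Ideal.pow_mem_pow hx m))⟩

theorem isIdealOfDefinition_of_pow_le {I J : Ideal A} (hI : LinTop.IsIdealOfDefinition A I)
    (hJ : IsOpen (J : Set A)) {n : ℕ} (hn : 0 < n) (h : J ^ n ≤ I) :
    LinTop.IsIdealOfDefinition A J := by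
  refine ⟨hJ, fun s hs => ?_⟩
  obtain ⟨m, hm, hms⟩ := hI.2 s hs
  refine ⟨n * m, Nat.mul_pos hn hm, Set.Subset.trans ?_ hms⟩
  exact pow_mul J n m ▸ Ideal.pow_right_mono h m

theorem isAdic_of_isPreadic [IsTopologicalRing A] (hA : LinTop.IsPreadic A) {I : Ideal A}
    (hI : LinTop.IsIdealOfDefinition A I) : IsAdic I := by
  obtain ⟨J, hJ⟩ := hA
  obtain ⟨m, hm⟩ := (isAdic_iff.mp hJ).2 _ (mem_nhds_of_isOpen hI.1)
  refine isAdic_iff.mpr ⟨fun n => isOpen_of_le ?_ ((isAdic_iff.mp hJ).1 (m * n)), fun s hs => ?_⟩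
  · exact pow_mul J m n ▸ Ideal.pow_right_mono hm n
  · obtain ⟨n, -, hn⟩ := hI.2 s hs
    exact ⟨n, hn⟩

theorem isIdealOfDefinition_of_isAdic [IsTopologicalRing A] {I : Ideal A} (h : IsAdic I) :
    LinTop.IsIdealOfDefinition A I := by
  refine ⟨pow_one I ▸ (isAdic_iff.mp h).1 1, fun s hs => ?_⟩
  obtain ⟨n, hn⟩ := (isAdic_iff.mp h).2 s hs
  exact ⟨n + 1, n.succ_pos, Set.Subset.trans (Ideal.pow_le_pow_right n.le_succ) hn⟩

end IdealOfDefinition

section Complete

variable {A : Type u} [CommRing A] [UniformSpace A] [IsUniformAddGroup A] [IsTopologicalRing A]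
  [IsLinearTopology A A] [T2Space A] [CompleteSpace A]

omit [T2Space A] in
theorem summable_of_mem_pow {I : Ideal A}
    (hsmall : ∀ U ∈ 𝓝 (0 : A), ∃ n : ℕ, ((I ^ n : Ideal A) : Set A) ⊆ U)
    {y : ℕ → A} (hy : ∀ j, y j ∈ I ^ j) : Summable y := by
  have := nonarchimedeanRing (A := A)
  refine NonarchimedeanAddGroup.summable_of_tendsto_cofinite_zero ?_
  rw [Nat.cofinite_eq_atTop]
  refine tendsto_atTop'.mpr fun s hs => ?_
  obtain ⟨n, hn⟩ := hsmall s hs
  exact ⟨n, fun m hm => hn (Ideal.pow_le_pow_right hm (hy m))⟩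

omit [T2Space A] in
/-- In a complete linearly topologized ring a series whose `j`-th term lies in `I ^ (n + j)`, for a
finitely generated ideal `I` with small powers, has its sum in `I ^ n`. -/
theorem exists_hasSum_mem_pow {I : Ideal A} (hfg : I.FG)
    (hsmall : ∀ U ∈ 𝓝 (0 : A), ∃ n : ℕ, ((I ^ n : Ideal A) : Set A) ⊆ U)
    (n : ℕ) (y : ℕ → A) (hy : ∀ j, y j ∈ I ^ (n + j)) : ∃ s ∈ I ^ n, HasSum y s := by
  classical
  obtain ⟨t, ht⟩ : (I ^ n).FG := Submodule.FG.pow hfg n
  have hy' : ∀ j, ∃ z : t →₀ A, (∀ i, z i ∈ I ^ j) ∧ (z.sum fun i c => c • (i : A)) = y j := by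
    intro j
    suffices h : y j ∈ I ^ j • Submodule.span A (Set.range fun i : t => (i : A)) by
      obtain ⟨z, hz, h⟩ := (Submodule.mem_ideal_smul_span_iff_exists_sum (I ^ j) _ _).mp h
      exact ⟨z, hz, h⟩
    rw [show Set.range (fun i : t => (i : A)) = (t : Set A) from Subtype.range_coe, Ideal.submodule_span_eq, ht, smul_eq_mul, ← pow_add, add_comm]
    exact hy j
  choose z hz hzy using hy'
  choose S hS using fun i : t => summable_of_mem_pow hsmall (fun j => hz j i)
  refine ⟨∑ i : t, S i * (i : A),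
    sum_mem fun i _ => Ideal.mul_mem_left _ _ (ht ▸ Submodule.subset_span i.2), ?_⟩
  rw [show y = fun j => ∑ i : t, z j i * (i : A) from funext fun j => by
    rw [← hzy j, Finsupp.sum_fintype _ (fun (i : t) (c : A) => c • (i : A)) (fun i => zero_smul _ _)]; rfl]
  exact hasSum_sum fun i _ => (hS i).mul_right (i : A)

/-- A complete linearly topologized ring is adically complete for every finitely generated ideal
with small powers. -/
theorem isAdicComplete_of_fg {I : Ideal A} (hfg : I.FG)
    (hsmall : ∀ U ∈ 𝓝 (0 : A), ∃ n : ℕ, ((I ^ n : Ideal A) : Set A) ⊆ U) : IsAdicComplete I A := by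
  refine { toIsHausdorff := ⟨fun x hx => ?_⟩, toIsPrecomplete := ⟨fun f hf => ?_⟩ }
  · have hx' : x ∈ closure ({0} : Set A) := mem_closure_iff_nhds.mpr fun s hs => by
      obtain ⟨n, hn⟩ := hsmall ((fun y => x - y) ⁻¹' s)
        ((continuous_const.sub continuous_id).tendsto' 0 x (sub_zero x) hs)
      have := hx n
      rw [SModEq.zero, smul_eq_mul, Ideal.mul_top] at this
      have := hn this
      exact ⟨0, by simpa using this, rfl⟩
    rwa [closure_singleton, Set.mem_singleton_iff] at hx'
  · have hf' : ∀ {m k}, m ≤ k → f m - f k ∈ I ^ m := fun {m k} h => by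
      have := SModEq.sub_mem.mp (hf h)
      rwa [smul_eq_mul, Ideal.mul_top] at this
    have key : ∀ n, ∃ s ∈ I ^ n, Tendsto f atTop (𝓝 (f n + s)) := fun n => by
      obtain ⟨s, hs, hsum⟩ := exists_hasSum_mem_pow hfg hsmall n (fun j => f (n + j + 1) - f (n + j))
        fun j => by simpa using neg_mem (hf' (n + j).le_succ)
      refine ⟨s, hs, ?_⟩
      have h1 := (hsum.tendsto_sum_nat).const_add (f n)
      rw [← tendsto_add_atTop_iff_nat n]
      refine h1.congr fun m => ?_
      have := Finset.sum_range_sub (fun j => f (n + j)) m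
      simp only [← add_assoc, add_zero] at this
      rw [this, add_comm m n]
      abel
    choose s hs hlim using key
    refine ⟨f 0 + s 0, fun n => ?_⟩
    rw [SModEq.sub_mem, smul_eq_mul, Ideal.mul_top, tendsto_nhds_unique (hlim 0) (hlim n)]
    simpa using hs n

/-- If the closures of the powers of a finitely generated ideal `I` of a complete linearly
topologized ring are open and form a basis of neighbourhoods of `0`, the topology is `I`-adic. -/
theorem isAdic_of_fg {I : Ideal A} (hfg : I.FG)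
    (hopen : ∀ n : ℕ, IsOpen (closure ((I ^ n : Ideal A) : Set A)))
    (hbasis : ∀ U ∈ 𝓝 (0 : A), ∃ n : ℕ, closure ((I ^ n : Ideal A) : Set A) ⊆ U) : IsAdic I := by
  have hsmall : ∀ U ∈ 𝓝 (0 : A), ∃ n : ℕ, ((I ^ n : Ideal A) : Set A) ⊆ U := fun U hU => by
    obtain ⟨n, hn⟩ := hbasis U hU
    exact ⟨n, subset_closure.trans hn⟩
  suffices h : ∀ n, closure ((I ^ n : Ideal A) : Set A) = (I ^ n : Ideal A) from
    isAdic_iff.mpr ⟨fun n => h n ▸ hopen n, hsmall⟩
  refine fun n => Set.Subset.antisymm (fun y hy => ?_) subset_closure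
  have step : ∀ j : ℕ, ∀ x : ↥((I ^ (n + j)).closure), ∃ w ∈ I ^ (n + j),
      (x : A) - w ∈ (I ^ (n + j + 1)).closure := fun j x => by
    obtain ⟨w, hw, r, hr, hwr⟩ :=
      Submodule.mem_sup.mp (mem_closure_iff.mp x.2 (I ^ (n + j + 1)).closure (hopen _))
    exact ⟨w, hw, by rwa [← hwr, add_sub_cancel_left]⟩
  choose W hW hr using step
  let r : ∀ j : ℕ, ↥((I ^ (n + j)).closure) :=
    fun j => Nat.rec ⟨y, hy⟩ (fun j x => ⟨(x : A) - W j x, hr j x⟩) j
  obtain ⟨s, hs, hsum⟩ := exists_hasSum_mem_pow hfg hsmall n (fun j => W j (r j)) fun j => hW j _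
  suffices y = s from this ▸ hs
  refine tendsto_nhds_unique (f := fun _ : ℕ => y) (l := atTop) tendsto_const_nhds ?_
  have hpart : ∀ m, y = (∑ j ∈ Finset.range m, W j (r j)) + (r m).1 := fun m => by
    induction m with
    | zero => exact (zero_add y).symm
    | succ m ih =>
      rw [Finset.sum_range_succ]
      change y = _ + _ + ((r m).1 - W m (r m))
      linear_combination (norm := abel) ih
  have hr0 : Tendsto (fun m => (r m).1) atTop (𝓝 0) := tendsto_atTop'.mpr fun t ht => by
    obtain ⟨k, hk⟩ := hbasis t ht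
    exact ⟨k, fun m hm => hk (_root_.closure_mono
      (Ideal.pow_le_pow_right (Nat.le_add_left_of_le hm)) (r m).2)⟩
  simpa only [← hpart, add_zero] using hsum.tendsto_sum_nat.add hr0

end Complete

section Approximation

/-- Successive approximation: a continuous homomorphism from a complete group is surjective onto the
closure of the image of each member of a filtration by closed subgroups tending to zero, as soon as
these closures are neighbourhoods of zero tending to zero. -/
theorem mem_image_of_mem_closure {G : Type u} {H : Type v} [AddCommGroup G] [UniformSpace G]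
    [IsUniformAddGroup G] [CompleteSpace G] [AddCommGroup H] [TopologicalSpace H]
    [IsTopologicalAddGroup H] [T2Space H] (f : G →+ H) (hf : Continuous f) (U : ℕ → AddSubgroup G)
    (hanti : Antitone U) (hclosed : ∀ n, IsClosed (U n : Set G))
    (hU : ∀ s ∈ 𝓝 (0 : G), ∃ n, (U n : Set G) ⊆ s)
    (hV : ∀ n, closure (f '' U n) ∈ 𝓝 (0 : H))
    (hVs : ∀ s ∈ 𝓝 (0 : H), ∃ n, closure (f '' U n) ⊆ s) {k : ℕ} {y : H}
    (hy : y ∈ closure (f '' U k)) : y ∈ f '' U k := by
  have step : ∀ j : ℕ, ∀ x : ↥(closure (f '' U (k + j))), ∃ u ∈ U (k + j),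
      (x : H) - f u ∈ closure (f '' U (k + j + 1)) := fun j x => by
    have hn : (fun z => (x : H) - z) ⁻¹' closure (f '' U (k + j + 1)) ∈ 𝓝 (x : H) :=
      (continuous_const.sub continuous_id).tendsto' (x : H) 0 (sub_self (x : H)) (hV _)
    obtain ⟨z, hz, u, hu, rfl⟩ := mem_closure_iff_nhds.mp x.2 _ hn
    exact ⟨u, hu, hz⟩
  choose W hW hr using step
  let r : ∀ j : ℕ, ↥(closure (f '' U (k + j))) :=
    fun j => Nat.rec ⟨y, hy⟩ (fun j x => ⟨(x : H) - f (W j x), hr j x⟩) j
  let S : ℕ → G := fun m => ∑ j ∈ Finset.range m, W j (r j)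
  have hS : ∀ m p, m ≤ p → S p - S m ∈ U (k + m) := fun m p hmp => by
    induction p, hmp using Nat.le_induction with
    | base => simp
    | succ p hmp ih =>
      rw [show S (p + 1) = S p + W p (r p) from Finset.sum_range_succ _ _, add_sub_right_comm]
      exact add_mem ih (hanti (Nat.add_le_add_left hmp k) (hW _ _))
  have hC : CauchySeq S := by
    rw [cauchySeq_iff_tendsto, uniformity_eq_comap_nhds_zero, tendsto_comap_iff]
    refine tendsto_atTop'.mpr fun s hs => ?_
    obtain ⟨n, hn⟩ := hU s hs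
    refine ⟨(n, n), fun p hp => hn ?_⟩
    have := sub_mem (hS n p.2 hp.2) (hS n p.1 hp.1)
    rw [sub_sub_sub_cancel_right] at this
    exact hanti (Nat.le_add_left n k) this
  obtain ⟨a, ha⟩ := cauchySeq_tendsto_of_complete hC
  refine ⟨a, (hclosed k).mem_of_tendsto ha (.of_forall fun m => ?_), ?_⟩
  · have := hS 0 m (Nat.zero_le m)
    rwa [show S 0 = 0 from rfl, sub_zero] at this
  · have hpart : ∀ m, f (S m) = y - (r m).1 := fun m => by
      induction m with
      | zero => exact (map_zero f).trans (sub_self y).symm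
      | succ m ih =>
        rw [show S (m + 1) = S m + W m (r m) from Finset.sum_range_succ _ _, map_add, ih]
        change _ = y - ((r m).1 - f (W m (r m)))
        abel
    refine tendsto_nhds_unique ((hf.tendsto a).comp ha) ?_
    have hr0 : Tendsto (fun m => (r m).1) atTop (𝓝 0) := tendsto_atTop'.mpr fun t ht => by
      obtain ⟨n, hn⟩ := hVs t ht
      exact ⟨n, fun m hm => hn (_root_.closure_mono
        (Set.image_mono (hanti (Nat.le_add_left_of_le hm))) (r m).2)⟩
    simpa [Function.comp_def, hpart] using hr0.const_sub y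

end Approximation

end Groth.Agent.LinTopLib
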