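import Groth.Agent.LinTopLib.Basic
import Mathlib.Topology.Algebra.GroupCompletion
import Mathlib.Topology.Algebra.UniformRing
import Mathlib.Topology.Algebra.IsUniformGroup.Basic

/-!
Completions of linearly topologized groups and rings: closures of images of a basis of
neighbourhoods, linearity of the topology, closures of extended ideals.
-/

set_option autoImplicit false

namespace Groth.Agent.LinTopLib

open Filter Topology UniformSpace

universe u v w

section Group

variable {M : Type u} [AddCommGroup M] [UniformSpace M] [IsUniformAddGroup M]

theorem hasBasis_completion {ι : Type w} {p : ι → Prop} {s : ι → Set M}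
    (h : (𝓝 (0 : M)).HasBasis p s) :
    (𝓝 (0 : Completion M)).HasBasis p fun i => closure ((fun x : M => (x : Completion M)) '' s i) := by
  rw [← Completion.coe_zero]
  exact h.hasBasis_of_isDenseInducing Completion.isDenseInducing_coe

omit [IsUniformAddGroup M] [AddCommGroup M] in
theorem coe_mem_closure_image_iff {s : Set M} {x : M} :
    (x : Completion M) ∈ closure ((fun y : M => (y : Completion M)) '' s) ↔ x ∈ closure s := by
  rw [Completion.isDenseInducing_coe.toIsInducing.closure_eq_preimage_closure_image s]
  rfl

theorem coe_mem_closure_image_of_isOpen {U : AddSubgroup M} (hU : IsOpen (U : Set M)) {x : M} :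
    (x : Completion M) ∈ closure ((fun y : M => (y : Completion M)) '' (U : Set M)) ↔ x ∈ U := by
  rw [coe_mem_closure_image_iff, (U.isClosed_of_isOpen hU).closure_eq]
  rfl

theorem closure_image_mem_nhds {s : Set M} (hs : s ∈ 𝓝 (0 : M)) :
    closure ((fun y : M => (y : Completion M)) '' s) ∈ 𝓝 (0 : Completion M) :=
  (hasBasis_completion (𝓝 (0 : M)).basis_sets).mem_of_mem hs

theorem isOpen_closure_image {U : AddSubgroup M} (hU : IsOpen (U : Set M)) :
    IsOpen (closure ((fun y : M => (y : Completion M)) '' (U : Set M))) :=
  (U.map (Completion.toCompl : M →+ Completion M)).topologicalClosure.isOpen_of_mem_nhds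
    (closure_image_mem_nhds (hU.mem_nhds U.zero_mem))

/-- Every point of the completion is within an open subgroup of the completion of some point of `M`. -/
theorem exists_sub_coe_mem {s : Set (Completion M)} (hs : s ∈ 𝓝 (0 : Completion M)) (x : Completion M) :
    ∃ m : M, x - (m : Completion M) ∈ s := by
  have hn : (fun z => x - z) ⁻¹' s ∈ 𝓝 x :=
    (continuous_const.sub continuous_id).tendsto' x 0 (sub_self x) hs
  obtain ⟨z, hz, m, rfl⟩ := mem_closure_iff_nhds.mp (Completion.denseRange_coe x) _ hn
  exact ⟨m, hz⟩

end Group

section Ring

set_option maxHeartbeats 100000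

variable {A : Type u} [CommRing A] [UniformSpace A] [IsUniformAddGroup A] [IsTopologicalRing A]

theorem closure_map_coe (I : Ideal A) :
    closure ((I.map (Completion.coeRingHom : A →+* Completion A) : Ideal (Completion A)) : Set (Completion A)) =
      closure ((fun y : A => (y : Completion A)) '' (I : Set A)) :=
  closure_map_eq_of_denseRange (Completion.coeRingHom : A →+* Completion A) Completion.denseRange_coe I

theorem isOpen_closure_map_coe {I : Ideal A} (hI : IsOpen (I : Set A)) :
    IsOpen (closure ((I.map (Completion.coeRingHom : A →+* Completion A) : Ideal (Completion A)) : Set (Completion A))) := by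
  rw [closure_map_coe]
  exact isOpen_closure_image (U := I.toAddSubgroup) hI

variable [IsLinearTopology A A]

theorem exists_closure_map_coe_subset {s : Set (Completion A)} (hs : s ∈ 𝓝 (0 : Completion A)) :
    ∃ I : Ideal A, IsOpen (I : Set A) ∧
      closure ((I.map (Completion.coeRingHom : A →+* Completion A) : Ideal (Completion A)) : Set (Completion A)) ⊆ s := by
  obtain ⟨I, hI, hIs⟩ := (hasBasis_completion IsLinearTopology.hasBasis_open_ideal).mem_iff.mp hs
  exact ⟨I, hI, by rwa [closure_map_coe]⟩

theorem isLinearTopology_completion : IsLinearTopology (Completion A) (Completion A) := by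
  have h : (𝓝 (0 : Completion A)).HasBasis (fun I : Ideal A => IsOpen (I : Set A))
      (fun I => ((I.map (Completion.coeRingHom : A →+* Completion A)).closure : Ideal (Completion A)) : Ideal A → Set (Completion A)) :=
    ⟨fun s => ⟨fun hs => exists_closure_map_coe_subset hs, fun ⟨I, hI, hIs⟩ => mem_of_superset
      ((isOpen_closure_map_coe hI).mem_nhds (subset_closure (Ideal.zero_mem _))) hIs⟩⟩
  exact IsLinearTopology.mk_of_hasBasis (Completion A)
    (s := fun I : Ideal A => (I.map (Completion.coeRingHom : A →+* Completion A)).closure) h

theorem isTaut_coeRingHom :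
    LinTop.IsTaut (Completion.coeRingHom : A →+* Completion A) :=
  ⟨Completion.continuous_coe A, fun _ hI => isOpen_closure_map_coe hI,
    fun _ hU => exists_closure_map_coe_subset hU⟩

end Ring

end Groth.Agent.LinTopLib
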