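import Groth.Agent.LinTopLib.Completion

/-!
Completions of quotients of linearly topologized modules.
-/

set_option autoImplicit false

namespace Groth.Agent.LinTopLib

open Filter Topology UniformSpace

universe u v w

section

variable {R : Type u} [Ring R] {M : Type v} [AddCommGroup M] [Module R M] [UniformSpace M]
  [IsUniformAddGroup M] [IsLinearTopology R M]
  {P : Type w} [AddCommGroup P] [UniformSpace P] [IsUniformAddGroup P]
  (q : M →+ P) (hq : Continuous q) (hqo : IsOpenMap q)

include R hqo in
theorem completion_ker_eq :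
    (AddMonoidHom.completion q hq) ⁻¹' {0} =
      closure ((fun x : M => (x : Completion M)) '' (q.ker : Set M)) := by
  have hcont : Continuous (AddMonoidHom.completion q hq) := AddMonoidHom.continuous_completion q hq
  refine Set.Subset.antisymm (fun x hx => ?_) (closure_minimal ?_ (isClosed_singleton.preimage hcont))
  · rw [mem_closure_iff_nhds]
    intro t ht
    have ht' : (fun d => x - d) ⁻¹' t ∈ 𝓝 (0 : Completion M) :=
      (continuous_const.sub continuous_id).tendsto' 0 x (sub_zero x) ht
    obtain ⟨U, hU, hUt⟩ :=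
      (hasBasis_completion (IsLinearTopology.hasBasis_open_submodule R)).mem_iff.mp ht'
    obtain ⟨m, hm⟩ := exists_sub_coe_mem (closure_image_mem_nhds (hU.mem_nhds U.zero_mem)) x
    have hV : IsOpen ((U.toAddSubgroup.map q : AddSubgroup P) : Set P) := hqo _ hU
    have h1 : ((-(q m) : P) : Completion P) ∈
        closure ((fun y : P => (y : Completion P)) '' ((U.toAddSubgroup.map q : AddSubgroup P) : Set P)) := by
      have h2 := map_mem_closure hcont hm
        (t := (fun y : P => (y : Completion P)) '' ((U.toAddSubgroup.map q : AddSubgroup P) : Set P))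
        (by
          rintro _ ⟨u, hu, rfl⟩
          exact ⟨q u, ⟨u, hu, rfl⟩, (AddMonoidHom.completion_coe q hq u).symm⟩)
      rw [map_sub, Set.mem_preimage.mp hx, zero_sub, AddMonoidHom.completion_coe] at h2
      rwa [Completion.coe_neg]
    rw [coe_mem_closure_image_of_isOpen hV] at h1
    obtain ⟨u, hu, huq⟩ := h1
    refine ⟨((m + u : M) : Completion M), ?_, m + u, ?_, rfl⟩
    · have hd : x - ((m + u : M) : Completion M) ∈
          closure ((fun y : M => (y : Completion M)) '' (U : Set M)) := by
        rw [Completion.coe_add, ← sub_sub]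
        exact AddSubgroup.sub_mem (U.toAddSubgroup.map (Completion.toCompl : M →+ Completion M)).topologicalClosure
          hm (subset_closure ⟨u, hu, rfl⟩)
      simpa using hUt hd
    · change q (m + u) = 0
      rw [map_add, huq, add_neg_cancel]
  · rintro _ ⟨n, hn, rfl⟩
    change AddMonoidHom.completion q hq n = 0
    rw [AddMonoidHom.completion_coe, show q n = 0 from hn, Completion.coe_zero]

include R hqo in
theorem completion_surjective_isOpenMap (hc : (𝓝 (0 : M)).IsCountablyGenerated)
    (hqs : Function.Surjective q) :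
    Function.Surjective (AddMonoidHom.completion q hq) ∧ IsOpenMap (AddMonoidHom.completion q hq) := by
  obtain ⟨N, hN, hNb⟩ := (IsLinearTopology.hasBasis_open_submodule R (M := M)).exists_antitone_subbasis
  let F := AddMonoidHom.completion q hq
  have hFc : Continuous F := AddMonoidHom.continuous_completion q hq
  let U : ℕ → AddSubgroup (Completion M) :=
    fun n => ((N n).toAddSubgroup.map (Completion.toCompl : M →+ Completion M)).topologicalClosure
  have hanti : Antitone U := fun a b h =>
    _root_.closure_mono (Set.image_mono (hNb.antitone h))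
  have hclosed : ∀ n, IsClosed (U n : Set (Completion M)) := fun n => isClosed_closure
  have hUs : ∀ s ∈ 𝓝 (0 : Completion M), ∃ n, (U n : Set (Completion M)) ⊆ s := fun s hs => by
    obtain ⟨n, -, hn⟩ := (hasBasis_completion hNb.1).mem_iff.mp hs
    exact ⟨n, hn⟩
  have hbP : (𝓝 (0 : P)).HasBasis (fun _ => True) (fun n => q '' (N n : Set M)) := by
    rw [← map_zero q, ← hqo.map_nhds_eq hq.continuousAt]
    exact hNb.1.map q
  have himg : ∀ n, (fun y : P => (y : Completion P)) '' (q '' (N n : Set M)) ⊆ F '' (U n : Set _) := by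
    intro n
    rintro _ ⟨_, ⟨x, hx, rfl⟩, rfl⟩
    exact ⟨x, subset_closure ⟨x, hx, rfl⟩, AddMonoidHom.completion_coe q hq x⟩
  have hV : ∀ n, closure (F '' (U n : Set _)) ∈ 𝓝 (0 : Completion P) := fun n =>
    mem_of_superset ((hasBasis_completion hbP).mem_of_mem (i := n) trivial) (_root_.closure_mono (himg n))
  have hVs : ∀ s ∈ 𝓝 (0 : Completion P), ∃ n, closure (F '' (U n : Set _)) ⊆ s := fun s hs => by
    obtain ⟨n, -, hn⟩ := (hasBasis_completion hbP).mem_iff.mp hs
    refine ⟨n, (closure_minimal ?_ isClosed_closure).trans hn⟩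
    refine (image_closure_subset_closure_image hFc).trans (_root_.closure_mono ?_)
    rintro _ ⟨_, ⟨x, hx, rfl⟩, rfl⟩
    exact ⟨q x, ⟨x, hx, rfl⟩, (AddMonoidHom.completion_coe q hq x).symm⟩
  refine ⟨fun z => ?_, ?_⟩
  · have hn : (fun w => z - w) ⁻¹' closure (F '' (U 0 : Set _)) ∈ 𝓝 z :=
      (continuous_const.sub continuous_id).tendsto' z 0 (sub_self z) (hV 0)
    obtain ⟨_, hw, p, rfl⟩ := mem_closure_iff_nhds.mp (Completion.denseRange_coe z) _ hn
    obtain ⟨b, -, hb⟩ := mem_image_of_mem_closure F hFc U hanti hclosed hUs hV hVs hw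
    obtain ⟨a, rfl⟩ := hqs p
    exact ⟨b + a, by
      change F (b + a) = z
      rw [map_add, hb, show F a = ((q a : P) : Completion P) from AddMonoidHom.completion_coe q hq a,
        sub_add_cancel]⟩
  · rw [IsTopologicalAddGroup.isOpenMap_iff_nhds_zero]
    intro s hs
    obtain ⟨n, hn⟩ := hUs _ (mem_map.mp hs)
    refine mem_of_superset (hV n) fun y hy => ?_
    obtain ⟨b, hb, rfl⟩ := mem_image_of_mem_closure F hFc U hanti hclosed hUs hV hVs hy
    exact hn hb

end

end Groth.Agent.LinTopLib
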