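import Groth.Agent.LinTopLib.Basic
import Mathlib.RingTheory.RingHom.FaithfullyFlat

/-!
Weakly pre-adic rings, taut homomorphisms and descent along taut faithfully flat homomorphisms.
-/

set_option autoImplicit false

namespace Groth.Agent.LinTopLib

open Filter Topology

universe u v

section

variable {A : Type u} [CommRing A] [TopologicalSpace A] [IsTopologicalRing A]
variable {B : Type v} [CommRing B] [TopologicalSpace B] [IsTopologicalRing B]

/-- The closure of the weakly pre-adic witness is an ideal of definition. -/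
theorem exists_isIdealOfDefinition_of_isWeaklyPreadic (hA : LinTop.IsWeaklyPreadic A) :
    ∃ I : Ideal A, LinTop.IsIdealOfDefinition A I ∧
      ∀ n : ℕ, IsOpen (closure ((I ^ n : Ideal A) : Set A)) := by
  obtain ⟨-, I, hopen, hbasis⟩ := hA
  refine ⟨I.closure, ⟨by simpa using hopen 1, fun s hs => ?_⟩, fun n => ?_⟩
  · obtain ⟨n, hn⟩ := hbasis s hs
    refine ⟨n + 1, n.succ_pos, Set.Subset.trans ?_ hn⟩
    exact fun x hx => _root_.closure_mono (Ideal.pow_le_pow_right n.le_succ) (closure_pow_le I (n + 1) hx)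
  · exact isOpen_of_le (I := (I ^ n).closure) (J := (I.closure ^ n).closure)
      (closure_mono (Ideal.pow_right_mono (le_closure I) n)) (hopen n)

theorem isOpen_closure_pow_of_isWeaklyPreadic (hA : LinTop.IsWeaklyPreadic A) {I : Ideal A}
    (hI : LinTop.IsIdealOfDefinition A I) (n : ℕ) : IsOpen (closure ((I ^ n : Ideal A) : Set A)) := by
  obtain ⟨J, hJ, hJopen⟩ := exists_isIdealOfDefinition_of_isWeaklyPreadic hA
  obtain ⟨m, -, hm⟩ := exists_pow_le hJ hI.1
  exact isOpen_of_le (I := (J ^ (m * n)).closure) (J := (I ^ n).closure)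
    (closure_mono (pow_mul J m n ▸ Ideal.pow_right_mono hm n)) (hJopen _)

theorem isWeaklyPreadic_of_isIdealOfDefinition [IsLinearTopology A A] {I : Ideal A}
    (hI : LinTop.IsIdealOfDefinition A I)
    (hopen : ∀ n : ℕ, 0 < n → IsOpen (closure ((I ^ n : Ideal A) : Set A))) :
    LinTop.IsWeaklyPreadic A := by
  refine ⟨inferInstance, I, fun n => ?_, fun s hs => ?_⟩
  · rcases n with _ | n
    · simp
    · exact hopen _ n.succ_pos
  · obtain ⟨U, hU, hUs⟩ := exists_isOpen_le hs
    obtain ⟨n, -, hn⟩ := exists_pow_le hI hU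
    exact ⟨n, fun x hx => hUs (closure_le_of_isOpen hn hU hx)⟩

theorem isWeaklyPreadic_of_isPreadic (hA : LinTop.IsPreadic A) : LinTop.IsWeaklyPreadic A := by
  obtain ⟨I, hI⟩ := hA
  have := isLinearTopology_of_isAdic hI
  refine isWeaklyPreadic_of_isIdealOfDefinition (isIdealOfDefinition_of_isAdic hI) fun n _ => ?_
  rw [(isClosed_of_isOpen (isOpen_pow_of_isAdic hI n)).closure_eq]
  exact isOpen_pow_of_isAdic hI n

omit [IsTopologicalRing A] in
theorem isWeaklyPreadic_of_isTaut [IsLinearTopology B B] {φ : A →+* B} (hφ : LinTop.IsTaut φ)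
    (hA : LinTop.IsWeaklyPreadic A) [IsTopologicalRing A] : LinTop.IsWeaklyPreadic B := by
  obtain ⟨hlin, I, hopen, hbasis⟩ := hA
  refine ⟨inferInstance, I.map φ, fun n => ?_, fun s hs => ?_⟩
  · rw [← Ideal.map_pow, ← Ideal.coe_closure, ← closure_map_closure φ hφ.1]
    exact hφ.2.1 _ (hopen n)
  · obtain ⟨J, hJ, hJs⟩ := hφ.2.2 s hs
    obtain ⟨n, hn⟩ := hbasis _ (mem_nhds_of_isOpen hJ)
    refine ⟨n, fun x hx => hJs (_root_.closure_mono ?_ hx)⟩
    rw [← Ideal.map_pow]
    exact Ideal.map_mono fun y hy => hn (subset_closure hy)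

omit [IsTopologicalRing A] in
/-- Descent along a taut faithfully flat homomorphism. -/
theorem le_of_map_le_closure {φ : A →+* B} (hφ : LinTop.IsTautFFlat φ) {I U : Ideal A}
    (hU : IsOpen (U : Set A)) (h : I.map φ ≤ (U.map φ).closure) : I ≤ U := fun x hx => by
  rw [← Ideal.Quotient.eq_zero_iff_mem]
  refine (hφ.2 U hU).injective ?_
  rw [map_zero, LinTop.descentMap, Ideal.quotientMap_mk, Ideal.Quotient.eq_zero_iff_mem]
  exact h (Ideal.mem_map_of_mem φ hx)

/-- If an open ideal has its extension inside the closure of the extension of `S`, it lies in the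
closure of `S`. -/
theorem le_closure_of_map_le_closure [IsLinearTopology A A] {φ : A →+* B}
    (hφ : LinTop.IsTautFFlat φ) {I S : Ideal A} (h : I.map φ ≤ (S.map φ).closure) :
    I ≤ S.closure := fun _ hx => mem_closure_iff.mpr fun _ hU =>
  le_of_map_le_closure hφ (isOpen_of_le le_sup_right hU)
    (h.trans (closure_mono (Ideal.map_mono le_sup_left))) hx

/-- An open ideal pushed into an ideal of definition by a taut faithfully flat map is one. -/
theorem isIdealOfDefinition_of_map_le [IsLinearTopology A A] {φ : A →+* B}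
    (hφ : LinTop.IsTautFFlat φ) {J : Ideal B} (hJ : LinTop.IsIdealOfDefinition B J) {I : Ideal A}
    (hI : IsOpen (I : Set A)) (hIJ : I.map φ ≤ J) : LinTop.IsIdealOfDefinition A I := by
  refine ⟨hI, fun s hs => ?_⟩
  obtain ⟨U, hU, hUs⟩ := exists_isOpen_le hs
  obtain ⟨n, hn, hle⟩ := exists_pow_le (U := (U.map φ).closure) hJ (hφ.1.2.1 U hU)
  refine ⟨n, hn, Set.Subset.trans ?_ hUs⟩
  exact le_of_map_le_closure hφ hU
    ((Ideal.map_pow φ I n).trans_le ((Ideal.pow_right_mono hIJ n).trans hle))

end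

end Groth.Agent.LinTopLib
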